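import Groth.Agent.Fano.K980.Irred
import Groth.Agent.Desc.K390.PnSec

/-!
# A stable map of genus zero and degree two without marked points contracts no component
-/

set_option autoImplicit false
universe u
open CategoryTheory CategoryTheory.Limits AlgebraicGeometry TopologicalSpace Opposite

namespace K681.ConF

open Groth.Agent.CurvesC.TailGeom Groth.Agent.CurvesB Groth.Agent.CurvesC Groth.Agent
open Groth.Agent.CurvesC.DualCount Groth.Agent.CurvesC.TailNum Groth.Agent.CurvesC.CompGeom
open K900.Comp K900.TopArg K980.Irred K390.PnSec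

attribute [local instance] subOver

section

variable (k : Type u) [Field k] (X : Scheme.{u}) [X.Over (Spec (CommRingCat.of k))]
  [IsProper (X ↘ (Spec (CommRingCat.of k)))] [IsAlgClosed k] [IsReduced X] [ConnectedSpace X]

open Classical in
/-- The numerical argument: if `L` has degree two and nonnegative degrees on the components of a nodal curve of genus zero,
and meets are at least three on the components of degree zero, then there is no component of degree zero. -/
theorem degC_ne_zero [IsNoetherian X] (hdim : topologicalKrullDim X = 1) (hX : Curv2.AtWorstNodal k X)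
    (hg : Curv2.genus k X = 0) {L : X.Modules} (hL : PicF.IsInvertible L) (hdeg : Curv2.deg k X L 1 = 2)
    (h0 : ∀ C : irreducibleComponents (X : Type u), 0 ≤ Groth.Agent.S1641.degC k X 1 L C)
    (h3 : ∀ C : irreducibleComponents (X : Type u), Groth.Agent.S1641.degC k X 1 L C = 0 →
      3 ≤ (C.1 ∩ closure C.1ᶜ).ncard) (C : irreducibleComponents (X : Type u)) :
    Groth.Agent.S1641.degC k X 1 L C ≠ 0 := by
  intro hC0
  have hC3 := h3 C hC0
  have hfr : Module.finrank k (Coh.HH X (Coh.structureModule X) 0) = 1 := K326.DegPts.finrank_zero k X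
  have hpure := TailMain.pure_of_connected X hdim
  obtain ⟨w, t, hw, ht⟩ := K900.DualBasic.exists_pair k X hdim hfr hX
  have hfin : Finite (irreducibleComponents (X : Type u)) :=
    TopologicalSpace.NoetherianSpace.finite_irreducibleComponents
  let _ : Fintype (irreducibleComponents (X : Type u)) := Fintype.ofFinite _
  have hne : ∀ D : irreducibleComponents (X : Type u), D.1 ≠ Set.univ := by
    intro D hD
    have h1 : D.1 ⊆ C.1 := C.2.2 D.2.1 (by rw [hD]; exact Set.subset_univ _)
    rw [hD] at h1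
    have h2 : C.1 = Set.univ := Set.univ_subset_iff.mp h1
    rw [h2] at hC3
    simp at hC3
  have e1 := deg_eq_sum k X hdim.le hpure hw
  have e2 := deg_eq_sum k X hdim.le hpure hL
  rw [finsum_eq_sum_of_fintype, deg_w k X hdim hfr hw ht, hg] at e1
  rw [finsum_eq_sum_of_fintype, hdeg] at e2
  simp only [degC_w k X hdim hX hg hw ht] at e1
  have e4 : ∀ D : irreducibleComponents (X : Type u),
      (3 : ℤ) - 2 * Groth.Agent.S1641.degC k X 1 L D ≤ ((D.1 ∩ closure D.1ᶜ).ncard : ℤ) := by
    intro D
    have h5 := ncard_pos X hdim.le D (hne D)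
    rcases eq_or_ne (Groth.Agent.S1641.degC k X 1 L D) 0 with h | h
    · have h6 := h3 D h
      rw [h]
      omega
    · have h6 := h0 D
      omega
  have e5 := Finset.sum_le_sum fun D (_ : D ∈ Finset.univ) => e4 D
  rw [Finset.sum_sub_distrib, ← Finset.mul_sum, ← e2] at e5
  rw [Finset.sum_sub_distrib] at e1
  simp only [Finset.sum_const, Finset.card_univ, nsmul_eq_mul] at e1 e5
  have e7 : ((C.1 ∩ closure C.1ᶜ).ncard : ℤ) ≤
      ∑ D : irreducibleComponents (X : Type u), ((D.1 ∩ closure D.1ᶜ).ncard : ℤ) :=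
    Finset.single_le_sum (f := fun D : irreducibleComponents (X : Type u) => ((D.1 ∩ closure D.1ᶜ).ncard : ℤ))
      (fun D _ => Int.natCast_nonneg _) (Finset.mem_univ C)
  push_cast at e1 e5
  have hC3' : (3 : ℤ) ≤ ((C.1 ∩ closure C.1ᶜ).ncard : ℤ) := by exact_mod_cast hC3
  omega

end

section Main

variable {k : Type u} [Field k] {n : ℕ} (Ω : Type u) [Field Ω] [IsAlgClosed Ω] {C : Scheme.{u}}
  (q : C ⟶ Spec (CommRingCat.of Ω)) (p : Fin 0 → C) (μ : C ⟶ CohB1.ProjSpace n k)
  (a : Spec (CommRingCat.of Ω) ⟶ Spec (CommRingCat.of k)) (ha : μ ≫ CohB1.ProjSpace.toSpec n k = q ≫ a)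
  (h : StMap.IsStableMap Ω C q 0 p μ)
  (hdeg : letI : C.Over (Spec (CommRingCat.of Ω)) := ⟨q⟩
    Curv2.deg Ω C ((Scheme.Modules.pullback μ).obj (O1 n k)) 1 = 2)

include ha h hdeg in
/-- No irreducible component of a stable map of genus `0` and degree `2` without marked points is contracted. -/
theorem not_subsingleton_of_isStableMap (E : Set C) (hE : E ∈ irreducibleComponents C) :
    ¬ (μ '' E).Subsingleton := by
  let _ : C.Over (Spec (CommRingCat.of Ω)) := ⟨q⟩
  obtain ⟨⟨hP, hconn, hdim, ⟨hX, hg⟩, -, -⟩, h2, -⟩ := h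
  have hP' : IsProper (C ↘ Spec (CommRingCat.of Ω)) := hP
  have hX' : Curv2.AtWorstNodal Ω C := hX
  have hg' : Curv2.genus Ω C = 0 := hg
  have hR : IsReduced C := GenusOne512.isReduced_of_atWorstNodal Ω C hX'
  have hN : IsNoetherian C := CurveCoh.noetherianSpace Ω C
  have hpure := TailMain.pure_of_connected C hdim
  have hO : PicF.IsInvertible (O1 n k) := (Groth.Agent.VarietyA.AmpleField.isAmple_twistProjSpace n k).1
  have hPp : IsProper (CohB1.ProjSpace.toSpec n k) := Groth.Agent.Ega3B.ProjProper.isProper_toSpec n k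
  let Y := pullback (CohB1.ProjSpace.toSpec n k) a
  let _ : Y.Over (Spec (CommRingCat.of Ω)) := ⟨pullback.snd (CohB1.ProjSpace.toSpec n k) a⟩
  have hPY : IsProper (Y ↘ Spec (CommRingCat.of Ω)) :=
    inferInstanceAs (IsProper (pullback.snd (CohB1.ProjSpace.toSpec n k) a))
  let c : C ⟶ Y := pullback.lift μ q ha
  have hcs : c ≫ pullback.snd (CohB1.ProjSpace.toSpec n k) a = q := pullback.lift_snd _ _ _
  have hcf : c ≫ pullback.fst (CohB1.ProjSpace.toSpec n k) a = μ := pullback.lift_fst _ _ _
  have hc : IsProper c := by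
    have : IsProper (c ≫ pullback.snd (CohB1.ProjSpace.toSpec n k) a) := by rw [hcs]; exact hP
    exact IsProper.of_comp c (pullback.snd (CohB1.ProjSpace.toSpec n k) a)
  let MY : Y.Modules := (Scheme.Modules.pullback (pullback.fst (CohB1.ProjSpace.toSpec n k) a)).obj (O1 n k)
  have haff : IsAffineHom (pullback.fst (CohB1.ProjSpace.toSpec n k) a) := by
    have h1 : IsAffineHom a := inferInstance
    exact MorphismProperty.pullback_fst _ _ h1
  have hMY : CohB1.IsAmple MY := Groth.Agent.Flat2H.FamOpen.isAmple_pullback_of_isAffineHom _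
    (Groth.Agent.VarietyA.AmpleField.isAmple_twistProjSpace n k)
  let L : C.Modules := (Scheme.Modules.pullback c).obj MY
  have hL : PicF.IsInvertible L := Groth.Agent.Fdesc.LocGen.isInvertible_pullback c hMY.1
  have eL : L ≅ (Scheme.Modules.pullback μ).obj (O1 n k) :=
    (Scheme.Modules.pullbackComp c (pullback.fst (CohB1.ProjSpace.toSpec n k) a)).app _ ≪≫
      (Scheme.Modules.pullbackCongr hcf).app _
  have hdegL : Curv2.deg Ω C L 1 = 2 := (DegIso.deg_congr Ω eL 1).trans hdeg
  -- degree zero iff contracted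
  have hzero : ∀ D : irreducibleComponents (C : Type u), Ctr μ D → Groth.Agent.S1641.degC Ω C 1 L D = 0 := by
    intro D hD
    have h6 := K900.DegC.degC_eq_zero Ω μ hO D hD
    rw [← h6]
    exact DegIso.deg_congr Ω ((Scheme.Modules.pullback _).mapIso eL) 1
  have hctrc : ∀ D : irreducibleComponents (C : Type u), Ctr c D → Ctr μ D := by
    intro D hD y hy
    rw [← hcf]
    change pullback.fst (CohB1.ProjSpace.toSpec n k) a (c.base y) =
      pullback.fst (CohB1.ProjSpace.toSpec n k) a (c.base _)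
    rw [hD y hy]
  have hctr : ∀ D : irreducibleComponents (C : Type u), Groth.Agent.S1641.degC Ω C 1 L D = 0 → Ctr μ D := by
    intro D hD
    apply hctrc
    by_contra hctr
    have h6 := K900.DegC.degC_pos Ω hdim.le hpure c hMY D hctr
    have h7 : Groth.Agent.S1641.degC Ω C 1 ((Scheme.Modules.pullback c).obj MY) D = 0 := hD
    omega
  intro hsub
  refine degC_ne_zero Ω C hdim hX' hg' hL hdegL (fun D => ?_) (fun D hD => ?_) ⟨E, hE⟩ (hzero ⟨E, hE⟩ ?_)
  · by_cases hctr : Ctr c D
    · exact (K900.DegC.degC_eq_zero Ω c hMY.1 D hctr).ge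
    · exact (K900.DegC.degC_pos Ω hdim.le hpure c hMY D hctr).le
  · have hPs : IsProper ((IC C D.1 D.2).subscheme ↘ Spec (CommRingCat.of Ω)) :=
      inferInstanceAs (IsProper ((IC C D.1 D.2).subschemeι ≫ (C ↘ (Spec (CommRingCat.of Ω)))))
    have hfin := Groth.Agent.S0002.result Ω (IC C D.1 D.2).subscheme
      (Coh.structureModule (IC C D.1 D.2).subscheme) (UnitCoh.isCoh_unit _) 1
    have h1 : Subsingleton (Coh.HH (IC C D.1 D.2).subscheme (Coh.structureModule (IC C D.1 D.2).subscheme) 1) :=
      Module.finrank_zero_iff.mp (genus_comp_eq_zero Ω C hdim.le hg' (IC C D.1 D.2))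
    have h4 := h2 D.1 (K896.TailBridge.isSmRatComp_of_h1 Ω C D.1 D.2 (hpure D.1 D.2) h1) (by
      rintro _ ⟨y, hy, rfl⟩ _ ⟨z, hz, rfl⟩
      exact (hctr D hD y hy).trans (hctr D hD z hz).symm)
    rw [K900.PtAmple.spec_eq C p D.2 (finite_inter hdim.le D.2).1] at h4
    have h5 : 3 ≤ (D.1 ∩ closure D.1ᶜ).ncard + (p ⁻¹' D.1).ncard := by exact_mod_cast h4
    have h6 : p ⁻¹' D.1 = ∅ := by
      ext i
      exact i.elim0
    rw [h6, Set.ncard_empty] at h5
    exact h5
  · intro y hy
    exact hsub ⟨y, hy, rfl⟩ ⟨_, gp_mem ⟨E, hE⟩, rfl⟩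

end Main

end K681.ConF
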